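import Mathlib
import Groth.Agent.Lib.Helper29.Purity.Normal
import Groth.Agent.Lib.Helper29.WildLift.Inertia

/-!
# A Galois cover of a regular local ring, unramified in codimension one and with trivial residue
extension, is trivial (helper29)
-/

set_option autoImplicit false
set_option linter.style.haveILetI false
set_option linter.unusedSectionVars false

namespace Groth.Agent.Lib.Helper29.WildSep

universe u w

open IsLocalRing

theorem algebraMap_surjective_of_inertia {R C : Type u} [CommRing R] [IsRegularLocalRing R]
    (hdim : (2 : WithBot ℕ∞) ≤ ringKrullDim R)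
    [CommRing C] [IsDomain C] [IsIntegrallyClosed C] [IsLocalRing C] [Algebra R C]
    [Module.Finite R C]
    (hinj : Function.Injective (algebraMap R C))
    (hres : Function.Surjective (residue C ∘ algebraMap R C))
    {G : Type w} [Group G] [Finite G] [MulSemiringAction G C] [SMulCommClass G R C]
    (hinv : ∀ c : C, (∀ σ : G, σ • c = c) → c ∈ Set.range (algebraMap R C))
    (hram : ∀ Q : Ideal C, Q.IsPrime → Q ≠ maximalIdeal C → Q.inertia G = ⊥) :
    Function.Surjective (algebraMap R C) := by
  haveI : Algebra.IsIntegral R C := Algebra.IsIntegral.of_finite R C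
  have hcomap : (maximalIdeal C).comap (algebraMap R C) = maximalIdeal R := by
    have h1 : ((maximalIdeal C).comap (algebraMap R C)).IsMaximal :=
      Ideal.isMaximal_comap_of_isIntegral_of_isMaximal (maximalIdeal C)
    exact eq_maximalIdeal h1
  haveI : IsLocalHom (algebraMap R C) := by
    refine ((local_hom_TFAE (algebraMap R C)).out 0 4 rfl rfl).mpr ?_
    exact hcomap
  have het : Algebra.Etale R C := by
    refine Groth.Agent.Lib.Helper29.Purity.purity_normal R C hdim hinj (fun q hq hne => ?_)
    haveI := hq
    refine Groth.Agent.Lib.Helper29.WildLift.isEtaleAt_of_inertia_eq_bot hinj hinv q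
      (hram q hq (fun h => hne ?_))
    rw [h, hcomap]
  haveI : Algebra.FormallyUnramified R C := inferInstance
  have hmap : (maximalIdeal R).map (algebraMap R C) = maximalIdeal C :=
    Algebra.FormallyUnramified.map_maximalIdeal
  -- Nakayama
  have htop : (⊤ : Submodule R C) ≤ LinearMap.range (Algebra.linearMap R C) := by
    refine Submodule.le_of_le_smul_of_le_jacobson_bot (I := maximalIdeal R)
      (Module.Finite.fg_top) ?_ ?_
    · rw [IsLocalRing.jacobson_eq_maximalIdeal _ bot_ne_top]
    · rintro c -
      obtain ⟨r, hr⟩ := hres (residue C c)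
      have h1 : c - algebraMap R C r ∈ maximalIdeal C := by
        rw [← residue_eq_zero_iff, map_sub, sub_eq_zero]
        exact hr.symm
      rw [← hmap] at h1
      have h1' : c - algebraMap R C r ∈ (maximalIdeal R • ⊤ : Submodule R C) := by
        rw [Ideal.smul_top_eq_map]
        exact h1
      have h2 : c = algebraMap R C r + (c - algebraMap R C r) := by ring
      rw [h2]
      exact Submodule.add_mem_sup ⟨r, rfl⟩ h1'
  intro c
  obtain ⟨r, hr⟩ := htop (Submodule.mem_top : c ∈ ⊤)
  exact ⟨r, hr⟩

end Groth.Agent.Lib.Helper29.WildSep
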