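import Mathlib

/-!
# The separable part of a normal domain finite over a domain (helper29)

AKLB setup: `R ⊆ A` domains with fraction fields `K ⊆ E`.  `sepSub K E : Subalgebra R A` is the
subalgebra of the elements of `A` that are separable over `K`.
-/

set_option autoImplicit false
set_option linter.style.haveILetI false
set_option linter.unusedSectionVars false

namespace Groth.Agent.Lib.Helper29.WildSep

universe u w

open IsLocalRing

/-- a separable element a `q`-power of which lies in the base field lies in the base field -/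
theorem mem_range_of_isSeparable_of_pow_mem {F E : Type*} [Field F] [Field E] [Algebra F E]
    (q : ℕ) [ExpChar F q] {x : E} (hsep : IsSeparable F x)
    (h : ∃ n : ℕ, x ^ q ^ n ∈ (algebraMap F E).range) : x ∈ (algebraMap F E).range := by
  have hdeg := (minpoly.natSepDegree_eq_one_iff_pow_mem q).2 h
  rwa [hsep.natSepDegree_eq_natDegree, minpoly.natDegree_eq_one_iff] at hdeg

/-- a ring with an injective integral map to a local ring is local -/
theorem isLocalRing_of_integral_injective {C A : Type*} [CommRing C] [CommRing A] [IsLocalRing A]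
    [Algebra C A] [Algebra.IsIntegral C A] (hinj : Function.Injective (algebraMap C A)) :
    IsLocalRing C ∧ ∀ [IsLocalRing C],
      (maximalIdeal A).comap (algebraMap C A) = maximalIdeal C := by
  haveI : Nontrivial C := (algebraMap C A).domain_nontrivial
  have hloc : IsLocalRing C := by
    obtain ⟨M, hM⟩ := Ideal.exists_maximal C
    refine IsLocalRing.of_unique_max_ideal ⟨M, hM, fun M' hM' => ?_⟩
    have key : ∀ N : Ideal C, N.IsMaximal → N = (maximalIdeal A).comap (algebraMap C A) := by
      intro N hN
      obtain ⟨Q, hQ, hQN⟩ := Ideal.exists_ideal_over_maximal_of_isIntegral (S := A) N (by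
        rw [(RingHom.injective_iff_ker_eq_bot _).mp hinj]
        exact bot_le)
      rw [← hQN, eq_maximalIdeal hQ]
    rw [key M hM, key M' hM']
  refine ⟨hloc, ?_⟩
  intro _
  exact eq_maximalIdeal (Ideal.isMaximal_comap_of_isIntegral_of_isMaximal (maximalIdeal A))

section AKLB

variable {R A : Type*} [CommRing R] [CommRing A] [Algebra R A]
  (K E : Type*) [Field K] [Field E] [Algebra R K] [Algebra A E]
  [Algebra K E] [Algebra R E] [IsScalarTower R K E] [IsScalarTower R A E]

/-- the elements of `A` separable over `K` -/
def sepSub : Subalgebra R A :=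
  ((separableClosure K E).toSubalgebra.restrictScalars R).comap (IsScalarTower.toAlgHom R A E)

theorem mem_sepSub {a : A} :
    a ∈ sepSub (R := R) (A := A) K E ↔ IsSeparable K (algebraMap A E a) := by
  rw [sepSub, Subalgebra.mem_comap, Subalgebra.mem_restrictScalars,
    IntermediateField.mem_toSubalgebra, mem_separableClosure_iff]
  rfl

end AKLB

section Props

variable {R A : Type*} [CommRing R] [CommRing A] [Algebra R A] [IsDomain A]
  (K E : Type*) [Field K] [Field E] [Algebra R K] [Algebra A E] [IsFractionRing A E]
  [Algebra K E] [Algebra R E] [IsScalarTower R K E] [IsScalarTower R A E]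

theorem isIntegrallyClosed_sepSub [IsIntegrallyClosed A] :
    IsIntegrallyClosed ↥(sepSub (R := R) (A := A) K E) := by
  let C := sepSub (R := R) (A := A) K E
  let F := FractionRing C
  let g : C →+* E := (algebraMap A E).comp C.val.toRingHom
  have hg : Function.Injective g := (IsFractionRing.injective A E).comp Subtype.val_injective
  let j : F →+* E := IsFractionRing.lift hg
  have hj : ∀ c : C, j (algebraMap C F c) = g c := fun c => IsFractionRing.lift_algebraMap hg c
  have hjinj : Function.Injective j := j.injective
  have hgmem : ∀ c : C, g c ∈ separableClosure K E := fun c =>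
    mem_separableClosure_iff.mpr ((mem_sepSub K E).mp c.2)
  change IsIntegrallyClosed C
  rw [isIntegrallyClosed_iff F]
  intro x hx
  have hmem : j x ∈ separableClosure K E := by
    obtain ⟨c, d, hd, rfl⟩ := IsFractionRing.div_surjective (A := C) x
    rw [map_div₀, hj, hj]
    exact div_mem (hgmem c) (hgmem d)
  have hint : IsIntegral A (j x) := by
    obtain ⟨P, hP, hPx⟩ := hx
    refine ⟨P.map C.val.toRingHom, hP.map _, ?_⟩
    rw [Polynomial.eval₂_map]
    have h1 : Polynomial.eval₂ ((algebraMap A E).comp C.val.toRingHom) (j x) P =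
        j (Polynomial.eval₂ (algebraMap C F) x P) := by
      rw [Polynomial.hom_eval₂]
      congr 1
      ext c
      exact (hj c).symm
    rw [h1, hPx, map_zero]
  obtain ⟨a, ha⟩ := IsIntegrallyClosed.algebraMap_eq_of_integral hint
  have haC : a ∈ C := (mem_sepSub K E).mpr (by
    rw [ha]; exact mem_separableClosure_iff.mp hmem)
  refine ⟨⟨a, haC⟩, hjinj ?_⟩
  rw [hj]
  exact ha

/-- invariants: a separable integral element with a `q`-power in `R` lies in `R` -/
theorem mem_range_of_mem_sepSub_of_pow_mem [IsDomain R] [IsIntegrallyClosed R]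
    [IsFractionRing R K] (q : ℕ) [ExpChar K q] {a : A} (ha : a ∈ sepSub (R := R) (A := A) K E)
    (haint : IsIntegral R a) (hpow : ∃ e : ℕ, a ^ q ^ e ∈ Set.range (algebraMap R A)) :
    a ∈ Set.range (algebraMap R A) := by
  have hsep := (mem_sepSub K E).mp ha
  have h1 : algebraMap A E a ∈ (algebraMap K E).range := by
    refine mem_range_of_isSeparable_of_pow_mem q hsep ?_
    obtain ⟨e, r, hr⟩ := hpow
    refine ⟨e, algebraMap R K r, ?_⟩
    rw [← map_pow, ← hr, ← IsScalarTower.algebraMap_apply, ← IsScalarTower.algebraMap_apply]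
  obtain ⟨κ, hκ⟩ := h1
  have h2 : IsIntegral R κ := by
    have h3 : IsIntegral R (algebraMap A E a) := haint.map (IsScalarTower.toAlgHom R A E)
    rw [← hκ] at h3
    exact (isIntegral_algebraMap_iff (algebraMap K E).injective).mp h3
  obtain ⟨r', hr'⟩ := IsIntegrallyClosed.algebraMap_eq_of_integral h2
  refine ⟨r', IsFractionRing.injective A E ?_⟩
  rw [← hκ, ← hr', ← IsScalarTower.algebraMap_apply, ← IsScalarTower.algebraMap_apply]

/-- every element of `A` has a `p`-power in the separable part -/
theorem exists_pow_mem_sepSub (p : ℕ) [ExpChar K p] [Algebra.IsAlgebraic K E] (a : A) :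
    ∃ e : ℕ, a ^ p ^ e ∈ sepSub (R := R) (A := A) K E := by
  haveI : ExpChar (separableClosure K E) p :=
    expChar_of_injective_algebraMap (algebraMap K (separableClosure K E)).injective p
  obtain ⟨n, y, hy⟩ := IsPurelyInseparable.pow_mem (separableClosure K E) p (algebraMap A E a)
  refine ⟨n, ?_⟩
  rw [mem_sepSub, map_pow, ← hy]
  exact mem_separableClosure_iff.mp y.2

/-- inertia descends to the separable part -/
theorem smul_sub_mem_of_forall_sepSub (p : ℕ) [ExpChar K p] [CharP A p] [Fact p.Prime]
    [Algebra.IsAlgebraic K E]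
    {G : Type*} [Group G] [MulSemiringAction G A] (Q : Ideal A) [Q.IsPrime] (σ : G)
    (h : ∀ c ∈ sepSub (R := R) (A := A) K E, σ • c - c ∈ Q) (a : A) : σ • a - a ∈ Q := by
  obtain ⟨e, he⟩ := exists_pow_mem_sepSub (R := R) K E p a
  have h1 := h _ he
  rw [smul_pow', ← sub_pow_char_pow] at h1
  exact Ideal.IsPrime.mem_of_pow_mem inferInstance _ h1

variable {G : Type*} [Group G] [MulSemiringAction G A] [MulSemiringAction G E]
  [SMulCommClass G K E]
  (hGE : ∀ (σ : G) (a : A), algebraMap A E (σ • a) = σ • algebraMap A E a)

include hGE in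
theorem smul_mem_sepSub (σ : G) {a : A} (ha : a ∈ sepSub (R := R) (A := A) K E) :
    σ • a ∈ sepSub (R := R) (A := A) K E := by
  rw [mem_sepSub] at ha ⊢
  rw [hGE]
  exact ha.map (MulSemiringAction.toAlgHom K E σ) (MulSemiringAction.toAlgHom K E σ).injective

/-- the action of `G` on the separable part -/
@[reducible] def sepAction : MulSemiringAction G ↥(sepSub (R := R) (A := A) K E) where
  smul σ c := ⟨σ • c.1, smul_mem_sepSub K E hGE σ c.2⟩
  one_smul _ := Subtype.ext (one_smul _ _)
  mul_smul _ _ _ := Subtype.ext (mul_smul _ _ _)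
  smul_zero _ := Subtype.ext (smul_zero _)
  smul_add _ _ _ := Subtype.ext (smul_add _ _ _)
  smul_one _ := Subtype.ext (smul_one _)
  smul_mul _ _ _ := Subtype.ext (smul_mul' _ _ _)

end Props

end Groth.Agent.Lib.Helper29.WildSep
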