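import Mathlib
import Groth.Agent.Lib.Helper29.WildSep.EtaleTriv
import Groth.Agent.Lib.Helper29.WildSep.Sep
import Groth.Agent.Lib.Helper73.RegularNormal

/-!
# The fixed ring of a cover ramified only at the origin is not purely inseparable over a regular
subring (helper29)
-/

set_option autoImplicit false
set_option linter.style.haveILetI false
set_option linter.unusedSectionVars false

namespace Groth.Agent.Lib.Helper29.WildSep

universe u w

open IsLocalRing

theorem false_of_forall_pow_mem (p : ℕ) [Fact p.Prime]
    {R A : Type u} [CommRing R] [IsRegularLocalRing R] (hdim : (2 : WithBot ℕ∞) ≤ ringKrullDim R)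
    [CommRing A] [IsDomain A] [IsIntegrallyClosed A] [IsLocalRing A] [CharP A p]
    [Algebra R A] [Module.Finite R A]
    (hinj : Function.Injective (algebraMap R A))
    (hres : Function.Surjective (residue A ∘ algebraMap R A))
    {G : Type w} [Group G] [Finite G] [MulSemiringAction G A] [SMulCommClass G R A]
    (hram : ∀ P : Ideal A, P.IsPrime → P ≠ maximalIdeal A → P.inertia G = ⊥)
    (hnt : ∃ σ : G, σ ≠ 1)
    (hpi : ∀ y : A, (∀ σ : G, σ • y = y) → ∃ e : ℕ, y ^ p ^ e ∈ Set.range (algebraMap R A)) :
    False := by
  obtain ⟨hdomR, hicR⟩ :=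
    Groth.Agent.Lib.Helper73.RegularNormal.isIntegrallyClosed_of_isRegularLocalRing R
  haveI : FaithfulSMul R A := (faithfulSMul_iff_algebraMap_injective R A).mpr hinj
  haveI : Algebra.IsIntegral R A := Algebra.IsIntegral.of_finite R A
  haveI : IsNoetherian R A := isNoetherian_of_isNoetherianRing_of_finite R A
  let K := FractionRing R
  let E := FractionRing A
  letI : Algebra K E := FractionRing.liftAlgebra R E
  haveI : IsScalarTower R K E := FractionRing.isScalarTower_liftAlgebra R E
  haveI : Algebra.IsAlgebraic K E := isAlgebraic_of_isFractionRing R A ..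
  letI : MulSemiringAction G E := IsFractionRing.mulSemiringAction G A E
  haveI : SMulDistribClass G A E := IsFractionRing.smulDistribClass G A E
  have hGE : ∀ (σ : G) (a : A), algebraMap A E (σ • a) = σ • algebraMap A E a :=
    fun σ a => algebraMap.smul' σ a E
  have hfixK : ∀ (σ : G) (κ : K), σ • algebraMap K E κ = algebraMap K E κ := by
    intro σ κ
    obtain ⟨r, s, hs, rfl⟩ := IsFractionRing.div_surjective (A := R) κ
    have h1 : ∀ r : R, σ • algebraMap K E (algebraMap R K r) = algebraMap K E (algebraMap R K r) := by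
      intro r
      rw [← IsScalarTower.algebraMap_apply, IsScalarTower.algebraMap_apply R A E, ← hGE,
        smul_algebraMap]
    rw [map_div₀, smul_div₀', h1, h1]
  haveI : SMulCommClass G K E := ⟨fun σ κ z => by
    rw [Algebra.smul_def, Algebra.smul_def, smul_mul', hfixK]⟩
  haveI : CharP R p := (algebraMap R A).charP hinj p
  haveI : CharP K p := charP_of_injective_algebraMap (IsFractionRing.injective R K) p
  haveI : ExpChar K p := ExpChar.prime Fact.out
  let C := sepSub (R := R) (A := A) K E
  letI : MulSemiringAction G C := sepAction K E hGE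
  have hsmul : ∀ (σ : G) (c : C), ((σ • c : C) : A) = σ • (c : A) := fun _ _ => rfl
  haveI : SMulCommClass G R C := ⟨fun σ r c => Subtype.ext (smul_comm σ r (c : A))⟩
  haveI : IsIntegrallyClosed C := isIntegrallyClosed_sepSub K E
  haveI : Module.Finite R C :=
    Module.Finite.of_injective C.val.toLinearMap Subtype.val_injective
  haveI : Algebra.IsIntegral C A := Algebra.IsIntegral.tower_top (R := R)
  have hCA : Function.Injective (algebraMap C A) := Subtype.val_injective
  obtain ⟨hlocC, hmaxC⟩ := isLocalRing_of_integral_injective hCA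
  haveI := hlocC
  have hmaxC' := hmaxC
  have hmemC : ∀ c : C, c ∈ maximalIdeal C ↔ (c : A) ∈ maximalIdeal A := by
    intro c
    rw [← hmaxC']
    rfl
  -- surjectivity of `R → C`
  have hsurj : Function.Surjective (algebraMap R C) := by
    refine algebraMap_surjective_of_inertia (G := G) hdim
      (fun x y hxy => hinj (congrArg Subtype.val hxy)) ?_ ?_ ?_
    · intro x
      obtain ⟨c, rfl⟩ := residue_surjective x
      obtain ⟨r, hr⟩ := hres (residue A (c : A))
      refine ⟨r, ?_⟩
      change residue C (algebraMap R C r) = residue C c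
      rw [← sub_eq_zero, ← map_sub, residue_eq_zero_iff, hmemC]
      change algebraMap R A r - (c : A) ∈ maximalIdeal A
      rw [← residue_eq_zero_iff, map_sub, sub_eq_zero]
      exact hr
    · intro c hc
      have h1 : ∀ σ : G, σ • (c : A) = (c : A) := fun σ => by
        rw [← hsmul, hc σ]
      obtain ⟨r, hr⟩ := mem_range_of_mem_sepSub_of_pow_mem K E p c.2
        (Algebra.IsIntegral.isIntegral _) (hpi _ h1)
      exact ⟨r, Subtype.ext hr⟩
    · intro Q hQ hQne
      haveI := hQ
      obtain ⟨P, hPprime, hPQ⟩ := Ideal.exists_ideal_over_prime_of_isIntegral_of_isDomain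
        (S := A) Q (by
          rw [(RingHom.injective_iff_ker_eq_bot _).mp hCA]
          exact bot_le)
      haveI := hPprime
      have hPne : P ≠ maximalIdeal A := by
        intro h
        apply hQne
        rw [← hPQ, h, hmaxC']
      rw [eq_bot_iff]
      intro σ hσ
      rw [← hram P hPprime hPne]
      intro a
      refine smul_sub_mem_of_forall_sepSub (R := R) K E p P σ (fun c hc => ?_) a
      have h2 := hσ ⟨c, hc⟩
      rw [← hPQ] at h2
      exact h2
  -- contradiction
  obtain ⟨σ, hσ⟩ := hnt
  have hbot : (⊥ : Ideal A) ≠ maximalIdeal A := by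
    intro h
    have hf : IsField A := IsLocalRing.isField_iff_maximalIdeal_eq.mpr h.symm
    have hfR : IsField R := isField_of_isIntegral_of_isField hinj hf
    have := ringKrullDim_eq_zero_of_isField hfR
    rw [this] at hdim
    exact absurd hdim (by decide)
  have hin := hram ⊥ Ideal.isPrime_bot hbot
  apply hσ
  rw [← Subgroup.mem_bot, ← hin]
  intro a
  change σ • a - a ∈ (⊥ : Ideal A)
  rw [Ideal.mem_bot, sub_eq_zero]
  obtain ⟨e, he⟩ := exists_pow_mem_sepSub (R := R) K E p a
  obtain ⟨r, hr⟩ := hsurj ⟨a ^ p ^ e, he⟩
  have hr' : algebraMap R A r = a ^ p ^ e := congrArg Subtype.val hr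
  have h1 : σ • (a ^ p ^ e) = a ^ p ^ e := by rw [← hr', smul_algebraMap]
  rw [smul_pow'] at h1
  have h2 : (σ • a - a) ^ p ^ e = 0 := by rw [sub_pow_char_pow, h1, sub_self]
  exact sub_eq_zero.mp
    ((pow_eq_zero_iff (pow_ne_zero e (Fact.out : p.Prime).ne_zero)).mp h2)

end Groth.Agent.Lib.Helper29.WildSep
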