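import Mathlib
import Groth.Agent.Lib.Helper21.PowerSeriesAdic
import Groth.Agent.Lib.Helper90.PSUniv
import Groth.Agent.Lib.Helper61.PSLocal

/-!
# Algebra maps out of a power series ring over a field into a separated ring are determined by the
images of the variables (helper29)
-/

set_option autoImplicit false
set_option linter.style.haveILetI false
set_option linter.unusedSectionVars false

namespace Groth.Agent.Lib.Helper29.WildSep

open MvPowerSeries

theorem algHom_ext_of_iInf_pow_eq_bot {k : Type*} [Field k] {n : ℕ} {A : Type*} [CommRing A]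
    [Algebra k A] (J : Ideal A) (hJ : (⨅ N : ℕ, J ^ N) = ⊥)
    (φ ψ : MvPowerSeries (Fin n) k →ₐ[k] A)
    (hφ : ∀ i, φ (X i) ∈ J) (h : ∀ i, φ (X i) = ψ (X i)) : φ = ψ := by
  have hker : RingHom.ker (constantCoeff : MvPowerSeries (Fin n) k →+* k) =
      Ideal.span (Set.range X) := by
    rw [← Groth.Agent.Lib.Helper61.PSLocal.maximalIdeal_eq_span_X]
    ext f
    rw [RingHom.mem_ker, Groth.Agent.Lib.Helper61.PSLocal.mem_maximalIdeal_iff]
  have hmap : ∀ (χ : MvPowerSeries (Fin n) k →ₐ[k] A), (∀ i, χ (X i) ∈ J) →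
      ∀ (N : ℕ) (f : MvPowerSeries (Fin n) k),
        f ∈ RingHom.ker (constantCoeff : MvPowerSeries (Fin n) k →+* k) ^ N → χ f ∈ J ^ N := by
    intro χ hχ N f hf
    have h1 : χ f ∈ (RingHom.ker (constantCoeff : MvPowerSeries (Fin n) k →+* k) ^ N).map
        (χ : MvPowerSeries (Fin n) k →+* A) := Ideal.mem_map_of_mem _ hf
    rw [Ideal.map_pow, hker, Ideal.map_span] at h1
    refine Ideal.pow_right_mono ?_ N h1
    rw [Ideal.span_le]
    rintro _ ⟨_, ⟨i, rfl⟩, rfl⟩
    exact hχ i
  have hpoly : ∀ p : MvPolynomial (Fin n) k,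
      φ (p : MvPowerSeries (Fin n) k) = ψ (p : MvPowerSeries (Fin n) k) := by
    intro p
    have h1 : φ.comp (MvPolynomial.coeToMvPowerSeries.algHom k) =
        ψ.comp (MvPolynomial.coeToMvPowerSeries.algHom k) := by
      apply MvPolynomial.algHom_ext
      intro i
      simp [h i]
    exact DFunLike.congr_fun h1 p
  apply AlgHom.ext
  intro f
  rw [← sub_eq_zero, ← Ideal.mem_bot, ← hJ, Ideal.mem_iInf]
  intro N
  obtain ⟨p, hp⟩ := Groth.Agent.Lib.Helper90.PSUniv.exists_trunc N f
  have h1 := Groth.Agent.Lib.Helper21.PSAdic.mem_ker_pow_of_coeff_eq_zero N _ hp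
  have h2 : φ f - ψ f = φ (f - p) - ψ (f - p) := by
    rw [map_sub, map_sub, hpoly]
    ring
  rw [h2]
  exact Ideal.sub_mem _ (hmap φ hφ N _ h1) (hmap ψ (fun i => h i ▸ hφ i) N _ h1)

end Groth.Agent.Lib.Helper29.WildSep
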